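import Groth.Agent.EtTensorLib.Basic
import Groth.Agent.S0734
import Groth.Agent.S7289
import Groth.Prelude.Def_ProEtW
import Groth.Agent.S0736
import Mathlib.CategoryTheory.Functor.OfSequence
import Mathlib.CategoryTheory.Category.ULift
import Mathlib.Algebra.Category.Ring.Limits
import Mathlib.Algebra.Category.Ring.Colimits
import Mathlib.CategoryTheory.Limits.Constructions.Over.Basic
import Mathlib.RingTheory.Smooth.NoetherianDescent
import Mathlib.RingTheory.Polynomial.Basic
import Mathlib.RingTheory.RingHom.Etale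

/-!
# Iterated tensor products of all faithfully flat étale algebras
-/

universe u

open CategoryTheory Limits
open scoped TensorProduct

namespace Groth.Agent.EtTensorLib

noncomputable section

/-- models of étale algebras with surjective spectrum map -/
def Idx (R : Type u) [CommRing R] : Type u :=
  Σ n : ℕ, {I : Ideal (MvPolynomial (Fin n) R) // I.FG ∧ Algebra.Etale R (MvPolynomial (Fin n) R ⧸ I) ∧
    Function.Surjective (PrimeSpectrum.comap (algebraMap R (MvPolynomial (Fin n) R ⧸ I)))}

/-- one step -/
abbrev Step (R : Type u) [CommRing R] : Type u := TT (fun i : Idx R => i.1) fun i => i.2.1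

theorem step_isIndEtale (R : Type u) [CommRing R] : EtPBC.IsIndEtale R (Step R) :=
  isIndEtale _ _ (fun i => i.2.2.1) fun i => i.2.2.2.1

theorem step_surjective (R : Type u) [CommRing R] :
    Function.Surjective (PrimeSpectrum.comap (algebraMap R (Step R))) :=
  comap_surjective _ _ (fun i => i.2.2.2.1) fun i => i.2.2.2.2

theorem step_lift (R D : Type u) [CommRing R] [CommRing D] [Algebra R D] [Algebra.Etale R D]
    (h : Function.Surjective (PrimeSpectrum.comap (algebraMap R D))) : Nonempty (D →ₐ[R] Step R) := by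
  obtain ⟨n, π, hπ, hker⟩ := Algebra.FinitePresentation.out (R := R) (A := D)
  let e := Ideal.quotientKerAlgEquivOfSurjective hπ
  have hs : Function.Surjective (PrimeSpectrum.comap (algebraMap R (MvPolynomial (Fin n) R ⧸ RingHom.ker π))) := fun p => by
    obtain ⟨q, hq⟩ := h p
    refine ⟨PrimeSpectrum.comap e.toAlgHom.toRingHom q, ?_⟩
    rw [← PrimeSpectrum.comap_comp_apply,
      show e.toAlgHom.toRingHom.comp (algebraMap R _) = algebraMap R D from e.toAlgHom.comp_algebraMap, hq]
  let i : Idx R := ⟨n, RingHom.ker π, hker, Algebra.Etale.of_equiv e.symm, hs⟩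
  exact ⟨(incl (fun i : Idx R => i.1) (fun i => i.2.1) i).comp e.symm.toAlgHom⟩

variable (A : Type u) [CommRing A]

/-- the stages -/
def obj : ℕ → Under (CommRingCat.of A)
  | 0 => Under.mk (CommRingCat.ofHom (RingHom.id A))
  | k + 1 => Under.mk ((obj k).hom ≫ CommRingCat.ofHom (algebraMap (obj k).right (Step (obj k).right)))

/-- the transition maps -/
def step (k : ℕ) : obj A k ⟶ obj A (k + 1) :=
  Under.homMk (CommRingCat.ofHom (algebraMap (obj A k).right (Step (obj A k).right))) rfl

/-- the tower -/
def tower : ℕ ⥤ Under (CommRingCat.of A) := Functor.ofSequence (step A)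

theorem tower_surjective {i j : ℕ} (h : i ≤ j) :
    Function.Surjective (PrimeSpectrum.comap ((tower A).map (homOfLE h)).right.hom) := by
  induction j, h using Nat.le_induction with
  | base =>
    rw [show homOfLE (le_refl i) = 𝟙 i from rfl, CategoryTheory.Functor.map_id]
    exact fun p => ⟨p, rfl⟩
  | succ j hj ih =>
    have hle := Nat.le_succ j
    rw [← homOfLE_comp hj hle, Functor.map_comp]
    intro p
    obtain ⟨q, rfl⟩ := ih p
    have : ((tower A).map (homOfLE hle)) = step A j := Functor.ofSequence_map_homOfLE_succ _ j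
    rw [this]
    obtain ⟨r, rfl⟩ := step_surjective (obj A j).right q
    exact ⟨r, rfl⟩

theorem isIndEtale_obj (k : ℕ) :
    letI := (obj A k).hom.hom.toAlgebra; EtPBC.IsIndEtale A (obj A k).right := by
  induction k with
  | zero =>
    show letI := (RingHom.id A).toAlgebra; EtPBC.IsIndEtale A A
    exact IndEtLib.isIndEtale_of_factor fun P _ _ _ φ => ⟨A, inferInstance, inferInstance, inferInstance, φ, AlgHom.id A A, AlgHom.id_comp φ⟩
  | succ k ih =>
    let := (obj A k).hom.hom.toAlgebra
    have h := S0734.result A (obj A k).right (Step (obj A k).right) ih (step_isIndEtale _)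
    have key : (((algebraMap (obj A k).right (Step (obj A k).right)).comp (obj A k).hom.hom).toAlgebra :
        Algebra A (Step (obj A k).right)) = (inferInstance : Algebra A (Step (obj A k).right)) := Algebra.algebra_ext _ _ fun _ => rfl
    show @EtPBC.IsIndEtale A (Step (obj A k).right) _ _
      (((algebraMap (obj A k).right (Step (obj A k).right)).comp (obj A k).hom.hom).toAlgebra)
    rw [key]
    exact h

/-- the system -/
def system : IndEtLib.Sys (CommRingCat.of A) where
  J := AsSmall.{u} ℕ
  D := AsSmall.down ⋙ tower A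
  c := colimit.cocone _
  hc := colimit.isColimit _

theorem tr_surjective {i j : (system A).J} (f : i ⟶ j) :
    Function.Surjective (PrimeSpectrum.comap ((system A).tr f).toRingHom) := by
  have : AsSmall.down.map f = homOfLE (leOfHom (AsSmall.down.map f)) := Subsingleton.elim _ _
  change Function.Surjective (PrimeSpectrum.comap ((tower A).map (AsSmall.down.map f)).right.hom)
  rw [this]
  exact tower_surjective A _

theorem exists_mem_map {m : (system A).J} (p : Ideal ((system A).A m)) {x : (system A).pt}
    (hx : x ∈ p.map ((system A).ι m).toRingHom) :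
    ∃ (k : (system A).J) (f : m ⟶ k) (y : (system A).A k), y ∈ p.map ((system A).tr f).toRingHom ∧ (system A).ι k y = x := by
  induction hx using Submodule.span_induction with
  | mem x hx =>
    obtain ⟨a, ha, rfl⟩ := hx
    exact ⟨m, 𝟙 m, (system A).tr (𝟙 m) a, Ideal.mem_map_of_mem _ ha, (system A).ι_tr_apply _ a⟩
  | zero => exact ⟨m, 𝟙 m, 0, zero_mem _, map_zero _⟩
  | add x y _ _ hx hy =>
    obtain ⟨k, f, a, ha, rfl⟩ := hx
    obtain ⟨k', f', b, hb, rfl⟩ := hy
    obtain ⟨l, g, g', hgg⟩ := IsFiltered.span f f'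
    refine ⟨l, f ≫ g, (system A).tr g a + (system A).tr g' b, add_mem ?_ ?_, by
      rw [map_add, IndEtLib.Sys.ι_tr_apply, IndEtLib.Sys.ι_tr_apply]⟩
    · rw [(system A).tr_comp]
      exact Ideal.map_map (I := p) ((system A).tr f).toRingHom ((system A).tr g).toRingHom ▸ Ideal.mem_map_of_mem _ ha
    · rw [hgg, (system A).tr_comp]
      exact Ideal.map_map (I := p) ((system A).tr f').toRingHom ((system A).tr g').toRingHom ▸ Ideal.mem_map_of_mem _ hb
  | smul r x _ hx =>
    obtain ⟨k, f, a, ha, rfl⟩ := hx
    obtain ⟨k', b, rfl⟩ := (system A).surj r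
    obtain ⟨l, g, g', -⟩ := IsFilteredOrEmpty.cocone_objs k k'
    refine ⟨l, f ≫ g, (system A).tr g' b * (system A).tr g a, Ideal.mul_mem_left _ _ ?_, by
      rw [map_mul, IndEtLib.Sys.ι_tr_apply, IndEtLib.Sys.ι_tr_apply, smul_eq_mul]⟩
    rw [(system A).tr_comp]
    exact Ideal.map_map (I := p) ((system A).tr f).toRingHom ((system A).tr g).toRingHom ▸ Ideal.mem_map_of_mem _ ha

theorem ι_surjective (m : (system A).J) :
    Function.Surjective (PrimeSpectrum.comap ((system A).ι m).toRingHom) := fun p => by
  refine (PrimeSpectrum.mem_range_comap_iff (f := ((system A).ι m).toRingHom)).2 (le_antisymm (fun r hr => ?_) Ideal.le_comap_map)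
  obtain ⟨k, f, y, hy, hyr⟩ := exists_mem_map A p.asIdeal (Ideal.mem_comap.1 hr)
  obtain ⟨l, g, hg⟩ := (system A).eq (x := y) (y := (system A).tr f r) (by rw [IndEtLib.Sys.ι_tr_apply]; exact hyr)
  obtain ⟨q, hq⟩ := tr_surjective A (f ≫ g) p
  rw [← hq]
  change (system A).tr (f ≫ g) r ∈ q.asIdeal
  rw [IndEtLib.Sys.tr_comp_apply, ← hg]
  have hle : p.asIdeal.map ((system A).tr f).toRingHom ≤ q.asIdeal.comap ((system A).tr g).toRingHom :=
    Ideal.map_le_iff_le_comap.2 fun z hz => by
      change (system A).tr g ((system A).tr f z) ∈ q.asIdeal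
      rw [← IndEtLib.Sys.tr_comp_apply]
      exact hq.ge hz
  exact hle hy

/-- the colimit -/
abbrev Limit : Type u := (system A).pt

theorem isIndEtale_limit : EtPBC.IsIndEtale A (Limit A) :=
  S7289.result A (Limit A) (system A).D (fun j => isIndEtale_obj A _) (system A).c (system A).hc (Iso.refl _)

theorem faithfullyFlat_limit : Module.FaithfullyFlat A (Limit A) := by
  have := (S0736.result A (Limit A) (isIndEtale_limit A)).flat
  refine Module.FaithfullyFlat.of_comap_surjective fun p => ?_
  obtain ⟨q, hq⟩ := ι_surjective A (AsSmall.up.obj 0) p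
  refine ⟨q, ?_⟩
  rw [← hq]
  congr 2
  exact ((system A).ι (AsSmall.up.obj 0)).comp_algebraMap.symm

theorem hasEtaleRetractions_limit : ProEtW.HasEtaleRetractions (Limit A) := by
  intro D _ _ hff hD
  obtain ⟨C₀, B₀, _, _, hfg, hB₀, ⟨e⟩⟩ := Algebra.Etale.exists_subalgebra_fg ℤ (Limit A) D
  have : Algebra.FiniteType ℤ C₀ := (Subalgebra.fg_iff_finiteType C₀).1 hfg
  obtain ⟨k, π, hπ⟩ := Algebra.FiniteType.iff_quotient_mvPolynomial''.1 this
  obtain ⟨G, hG⟩ : (RingHom.ker π).FG := IsNoetherian.noetherian _
  obtain ⟨i, y, hy⟩ := (system A).exists_lift_finset (Finset.univ : Finset (Fin k)) fun a => (π (MvPolynomial.X a) : Limit A)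
  let χ : MvPolynomial (Fin k) ℤ →+* (system A).A i := MvPolynomial.eval₂Hom (Int.castRingHom _) y
  have hχ : ((system A).ι i).toRingHom.comp χ = C₀.val.toRingHom.comp π.toRingHom :=
    MvPolynomial.ringHom_ext' (RingHom.ext_int _ _) fun a => by
      simp [χ]
      exact hy a (Finset.mem_univ a)
  obtain ⟨m, f, hf⟩ := (system A).exists_eq_finset G (fun q => χ q) (fun _ => 0) fun q hq => by
    refine (RingHom.congr_fun hχ q).trans ?_
    have : π q = 0 := RingHom.mem_ker.1 (hG.le (Submodule.subset_span hq))
    simp [this]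
  let χ' : MvPolynomial (Fin k) ℤ →+* (system A).A m := ((system A).tr f).toRingHom.comp χ
  have hker : RingHom.ker π ≤ RingHom.ker χ' :=
    hG.ge.trans (Submodule.span_le.2 fun q hq => (hf q hq).trans (map_zero _))
  let φ : C₀ →+* (system A).A m := RingHom.liftOfSurjective π.toRingHom hπ ⟨χ', hker⟩
  have hφ : ((system A).ι m).toRingHom.comp φ = C₀.val.toRingHom := by
    refine RingHom.ext fun c => ?_
    obtain ⟨q, rfl⟩ := hπ c
    change (system A).ι m (φ (π.toRingHom q)) = _
    rw [RingHom.liftOfRightInverse_comp_apply]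
    refine (IndEtLib.Sys.ι_tr_apply _ f (χ q)).trans ?_
    exact RingHom.congr_fun hχ q
  let := φ.toAlgebra
  let := ((system A).ι m).toRingHom.toAlgebra
  have : IsScalarTower C₀ ((system A).A m) (Limit A) := IsScalarTower.of_algebraMap_eq' hφ.symm
  let D' := (system A).A m ⊗[C₀] B₀
  have : Algebra.Etale ((system A).A m) D' := inferInstance
  -- the descended algebra has surjective spectrum map
  let g : D' →ₐ[(system A).A m] Limit A ⊗[C₀] B₀ :=
    Algebra.TensorProduct.map (Algebra.ofId ((system A).A m) (Limit A)) (AlgHom.id C₀ B₀)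
  have hs : Function.Surjective (PrimeSpectrum.comap (algebraMap ((system A).A m) D')) := fun p => by
    obtain ⟨q, rfl⟩ := ι_surjective A m p
    obtain ⟨r, rfl⟩ := PrimeSpectrum.comap_surjective_of_faithfullyFlat (B := D) q
    refine ⟨PrimeSpectrum.comap (e.symm.toAlgHom.toRingHom.comp g.toRingHom) r, ?_⟩
    rw [← PrimeSpectrum.comap_comp_apply, ← PrimeSpectrum.comap_comp_apply, RingHom.comp_assoc]
    refine congrArg (fun F => PrimeSpectrum.comap F r) (RingHom.ext fun x => ?_)
    simp only [RingHom.comp_apply, AlgHom.toRingHom_eq_coe, RingHom.coe_coe, AlgHom.commutes]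
    rw [IsScalarTower.algebraMap_apply ((system A).A m) (Limit A) (Limit A ⊗[C₀] B₀)]
    exact e.symm.toAlgHom.commutes _
  obtain ⟨σ⟩ := step_lift ((system A).A m) D' hs
  -- compose with the next stage
  let n := AsSmall.down.obj m
  let h : m ⟶ AsSmall.up.obj (n + 1) := AsSmall.up.map (homOfLE (Nat.le_succ n))
  let ψ : B₀ →+* Limit A := (((system A).ι (AsSmall.up.obj (n + 1))).toRingHom.comp σ.toRingHom).comp
    (Algebra.TensorProduct.includeRight : B₀ →ₐ[C₀] D').toRingHom
  have hstep : ∀ x : (system A).A m, (system A).ι (AsSmall.up.obj (n + 1)) (algebraMap ((system A).A m) (Step ((system A).A m)) x) = (system A).ι m x := fun x => by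
    rw [← (system A).ι_tr_apply h x]
    congr 1
    change _ = ((tower A).map (homOfLE (Nat.le_succ n))).right x
    rw [show (tower A).map (homOfLE (Nat.le_succ n)) = step A n from Functor.ofSequence_map_homOfLE_succ _ n]
    rfl
  let ψ' : B₀ →ₐ[C₀] Limit A := { ψ with
    commutes' := fun c => by
      change (system A).ι (AsSmall.up.obj (n + 1)) (σ ((Algebra.TensorProduct.includeRight : B₀ →ₐ[C₀] D') (algebraMap C₀ B₀ c))) = _
      rw [AlgHom.commutes, IsScalarTower.algebraMap_apply C₀ ((system A).A m) D', AlgHom.commutes]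
      refine (hstep _).trans ?_
      exact RingHom.congr_fun hφ c }
  exact ⟨(Algebra.TensorProduct.lift (AlgHom.id (Limit A) (Limit A)) ψ' fun _ _ => .all _ _).comp e.toAlgHom⟩

end

end Groth.Agent.EtTensorLib
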