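import Groth.Agent.IndEtLib.Sys
import Mathlib.RingTheory.Etale.Weakly
import Mathlib.RingTheory.Spectrum.Prime.RingHom
import Mathlib.RingTheory.Etale.Field
import Mathlib.FieldTheory.IsAlgClosed.AlgebraicClosure
import Mathlib.RingTheory.Ideal.Over
import Mathlib.RingTheory.LocalRing.ResidueField.Ideal

/-!
# Tensor products of families of étale algebras
-/

universe u

open MvPolynomial
open scoped TensorProduct

namespace Groth.Agent.EtTensorLib

noncomputable section

variable {R : Type u} [CommRing R] {ι : Type u} (n : ι → ℕ) (I : ∀ i, Ideal (MvPolynomial (Fin (n i)) R))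

/-- the ideal of relations -/
def rel : Ideal (MvPolynomial (Σ i, Fin (n i)) R) :=
  ⨆ i, (I i).map (rename (R := R) fun k : Fin (n i) => (⟨i, k⟩ : Σ i, Fin (n i))).toRingHom

/-- the tensor product of the family -/
abbrev TT : Type u := MvPolynomial (Σ i, Fin (n i)) R ⧸ rel n I

/-- inclusion of a factor -/
def incl (i : ι) : (MvPolynomial (Fin (n i)) R ⧸ I i) →ₐ[R] TT n I :=
  Ideal.Quotient.liftₐ (I i) ((Ideal.Quotient.mkₐ R _).comp (rename fun k => ⟨i, k⟩)) fun a ha =>
    Ideal.Quotient.eq_zero_iff_mem.2 (Ideal.mem_iSup_of_mem i (Ideal.mem_map_of_mem _ ha))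

@[simp] theorem incl_X (i : ι) (k : Fin (n i)) :
    incl n I i (Ideal.Quotient.mk _ (X k)) = Ideal.Quotient.mk _ (X ⟨i, k⟩) := by
  change Ideal.Quotient.mk _ (rename (fun k => (⟨i, k⟩ : Σ i, Fin (n i))) (X k)) = _
  rw [rename_X]

theorem hom_ext {S : Type u} [CommRing S] [Algebra R S] {f g : TT n I →ₐ[R] S}
    (h : ∀ i, f.comp (incl n I i) = g.comp (incl n I i)) : f = g := by
  refine Ideal.Quotient.algHom_ext _ (MvPolynomial.algHom_ext fun ⟨i, k⟩ => ?_)
  simpa using AlgHom.congr_fun (h i) (Ideal.Quotient.mk _ (X k))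

/-- universal property -/
def desc {S : Type u} [CommRing S] [Algebra R S] (g : ∀ i, (MvPolynomial (Fin (n i)) R ⧸ I i) →ₐ[R] S) :
    TT n I →ₐ[R] S :=
  Ideal.Quotient.liftₐ _ (aeval fun ik => g ik.1 (Ideal.Quotient.mk _ (X ik.2))) fun a ha => by
    have hle : rel n I ≤ RingHom.ker (aeval fun ik : Σ i, Fin (n i) => g ik.1 (Ideal.Quotient.mk _ (X ik.2))) := by
      refine iSup_le fun i => Ideal.map_le_iff_le_comap.2 fun x hx => ?_
      have h : (aeval fun ik : Σ i, Fin (n i) => g ik.1 (Ideal.Quotient.mk _ (X ik.2))).comp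
          (rename fun k => ⟨i, k⟩) = (g i).comp (Ideal.Quotient.mkₐ R _) :=
        MvPolynomial.algHom_ext fun k => by simp
      refine (AlgHom.congr_fun h x).trans ?_
      rw [AlgHom.comp_apply, Ideal.Quotient.mkₐ_eq_mk, Ideal.Quotient.eq_zero_iff_mem.2 hx, map_zero]
    exact hle ha

@[simp] theorem desc_comp {S : Type u} [CommRing S] [Algebra R S]
    (g : ∀ i, (MvPolynomial (Fin (n i)) R ⧸ I i) →ₐ[R] S) (i : ι) : (desc n I g).comp (incl n I i) = g i :=
  Ideal.Quotient.algHom_ext _ (MvPolynomial.algHom_ext fun k => by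
    simp only [AlgHom.comp_apply, Ideal.Quotient.mkₐ_eq_mk, incl_X]
    change aeval _ (X _) = _
    rw [aeval_X])

theorem formallyEtale (h : ∀ i, Algebra.FormallyEtale R (MvPolynomial (Fin (n i)) R ⧸ I i)) :
    Algebra.FormallyEtale R (TT n I) := by
  refine Algebra.FormallyEtale.iff_comp_bijective.2 fun B _ _ J hJ => ?_
  have hb := fun i => (Algebra.FormallyEtale.iff_comp_bijective.1 (h i)) (B := B) J hJ
  refine ⟨fun f g hfg => hom_ext n I fun i => (hb i).1 ?_, fun f => ?_⟩
  · show (Ideal.Quotient.mkₐ R J).comp _ = (Ideal.Quotient.mkₐ R J).comp _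
    rw [← AlgHom.comp_assoc, show (Ideal.Quotient.mkₐ R J).comp f = (Ideal.Quotient.mkₐ R J).comp g from hfg, AlgHom.comp_assoc]
  · refine ⟨desc n I fun i => ((hb i).2 (f.comp (incl n I i))).choose, hom_ext n I fun i => ?_⟩
    show ((Ideal.Quotient.mkₐ R J).comp _).comp _ = _
    rw [AlgHom.comp_assoc, desc_comp]
    exact ((hb i).2 (f.comp (incl n I i))).choose_spec

theorem etale_of_finite [Finite ι] (hfg : ∀ i, (I i).FG)
    (h : ∀ i, Algebra.Etale R (MvPolynomial (Fin (n i)) R ⧸ I i)) : Algebra.Etale R (TT n I) := by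
  haveI := formallyEtale n I fun i => (h i).formallyEtale
  haveI : Algebra.FinitePresentation R (TT n I) :=
    Algebra.FinitePresentation.quotient (Submodule.fg_iSup _ fun i => Ideal.FG.map (hfg i) _)
  exact ⟨inferInstance, inferInstance⟩

/-- enlarging the family -/
def restr (s : Set ι) : TT (fun i : s => n i) (fun i : s => I i) →ₐ[R] TT n I :=
  desc _ _ fun i => incl n I i

theorem exists_factor (P : Type u) [CommRing P] [Algebra R P] [Algebra.FinitePresentation R P]
    (φ : P →ₐ[R] TT n I) :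
    ∃ (s : Finset ι) (α : P →ₐ[R] TT (fun i : (s : Set ι) => n i) (fun i : (s : Set ι) => I i)),
      (restr n I s).comp α = φ := by
  classical
  obtain ⟨m, π, hπ, hker⟩ := Algebra.FinitePresentation.out (R := R) (A := P)
  obtain ⟨G, hG⟩ := hker
  choose F hF using fun a : Fin m => Ideal.Quotient.mk_surjective (φ (π (X a)))
  have hG' : ∀ q ∈ G, ∃ t : Finset ι, aeval F q ∈ ⨆ i ∈ t,
      (I i).map (rename (R := R) fun k : Fin (n i) => (⟨i, k⟩ : Σ i, Fin (n i))).toRingHom := fun q hq => by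
    refine (Submodule.mem_iSup_iff_exists_finset (p := fun i =>
      (I i).map (rename (R := R) fun k : Fin (n i) => (⟨i, k⟩ : Σ i, Fin (n i))).toRingHom)).1 ?_
    change aeval F q ∈ rel n I
    have h : (Ideal.Quotient.mkₐ R (rel n I)).comp (aeval F) = φ.comp π := MvPolynomial.algHom_ext fun a => by simp [hF]
    rw [← Ideal.Quotient.eq_zero_iff_mem]
    refine (AlgHom.congr_fun h q).trans ?_
    have : q ∈ RingHom.ker π := hG.le (Submodule.subset_span hq)
    rw [AlgHom.comp_apply, RingHom.mem_ker.1 this, map_zero]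
  choose t ht using hG'
  let s : Finset ι := (Finset.univ.biUnion fun a => (F a).vars.image Sigma.fst) ∪ G.attach.biUnion fun q => t q.1 q.2
  let ε : MvPolynomial (Σ i, Fin (n i)) R →ₐ[R] TT (fun i : (s : Set ι) => n i) (fun i : (s : Set ι) => I i) :=
    aeval fun ik => if h : ik.1 ∈ s then incl (fun i : (s : Set ι) => n i) (fun i : (s : Set ι) => I i) ⟨ik.1, h⟩
      (Ideal.Quotient.mk _ (X ik.2)) else 0
  have hε : ∀ q (hq : q ∈ G), ε (aeval F q) = 0 := fun q hq => by
    have hle : (⨆ i ∈ t q hq, (I i).map (rename (R := R) fun k : Fin (n i) => (⟨i, k⟩ : Σ i, Fin (n i))).toRingHom)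
        ≤ RingHom.ker ε := by
      refine iSup₂_le fun i hi => Ideal.map_le_iff_le_comap.2 fun x hx => ?_
      have his : i ∈ s := Finset.mem_union_right _ (Finset.mem_biUnion.2 ⟨⟨q, hq⟩, Finset.mem_attach _ _, hi⟩)
      have h : ε.comp (rename fun k => ⟨i, k⟩) = (incl (fun i : (s : Set ι) => n i) (fun i : (s : Set ι) => I i) ⟨i, his⟩).comp
          (Ideal.Quotient.mkₐ R (I i)) := MvPolynomial.algHom_ext fun k => by simp [ε, his]
      refine (AlgHom.congr_fun h x).trans ?_
      rw [AlgHom.comp_apply, Ideal.Quotient.mkₐ_eq_mk, Ideal.Quotient.eq_zero_iff_mem.2 hx, map_zero]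
    exact hle (ht q hq)
  have hker' : RingHom.ker π ≤ RingHom.ker (ε.comp (aeval F)) := by
    exact hG.ge.trans (Submodule.span_le.2 fun q hq => hε q hq)
  refine ⟨s, AlgHom.liftOfSurjective π hπ (ε.comp (aeval F)) hker', ?_⟩
  have key : ((restr n I s).comp (ε.comp (aeval F))) = φ.comp π := MvPolynomial.algHom_ext fun a => by
    change restr n I s (ε (aeval F (X a))) = φ (π (X a))
    rw [aeval_X, ← hF a]
    refine hom_congr_vars (f₁ := ((restr n I s).comp ε).toRingHom) (f₂ := Ideal.Quotient.mk (rel n I))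
      (RingHom.ext fun r => ((restr n I s).comp ε).commutes r) (fun ik hik _ => ?_) rfl
    have hs : ik.1 ∈ s := Finset.mem_union_left _ (Finset.mem_biUnion.2 ⟨a, Finset.mem_univ _, Finset.mem_image_of_mem _ hik⟩)
    change restr n I s (ε (X ik)) = Ideal.Quotient.mk _ (X ik)
    simp only [ε, aeval_X, dif_pos hs]
    rw [← AlgHom.comp_apply, restr, desc_comp, incl_X]
  refine AlgHom.ext fun p => ?_
  obtain ⟨q, rfl⟩ := hπ p
  rw [AlgHom.comp_apply]
  refine (congrArg (restr n I s) (AlgHom.liftOfSurjective_apply π hπ _ hker' q)).trans ?_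
  exact AlgHom.congr_fun key q

theorem isIndEtale (hfg : ∀ i, (I i).FG) (h : ∀ i, Algebra.Etale R (MvPolynomial (Fin (n i)) R ⧸ I i)) :
    EtPBC.IsIndEtale R (TT n I) :=
  IndEtLib.isIndEtale_of_factor fun P _ _ _ φ => by
    obtain ⟨s, α, hα⟩ := exists_factor n I P φ
    exact ⟨_, inferInstance, inferInstance, etale_of_finite (fun i : (s : Set ι) => n i) (fun i : (s : Set ι) => I i)
      (fun i => hfg i) (fun i => h i), α, _, hα⟩

theorem comap_surjective (h : ∀ i, Algebra.Etale R (MvPolynomial (Fin (n i)) R ⧸ I i))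
    (hs : ∀ i, Function.Surjective (PrimeSpectrum.comap (algebraMap R (MvPolynomial (Fin (n i)) R ⧸ I i)))) :
    Function.Surjective (PrimeSpectrum.comap (algebraMap R (TT n I))) := fun p => by
  let K := AlgebraicClosure p.asIdeal.ResidueField
  have key : ∀ i, Nonempty ((MvPolynomial (Fin (n i)) R ⧸ I i) →ₐ[R] K) := fun i => by
    have := h i
    obtain ⟨q, hq⟩ := hs i p
    have : q.asIdeal.LiesOver p.asIdeal := ⟨by rw [← hq]; rfl⟩
    let := Localization.AtPrime.algebraOfLiesOver p.asIdeal q.asIdeal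
    have : Module.Finite p.asIdeal.ResidueField q.asIdeal.ResidueField := inferInstance
    exact ⟨((IsAlgClosed.lift : q.asIdeal.ResidueField →ₐ[p.asIdeal.ResidueField] K).restrictScalars R).comp
      (IsScalarTower.toAlgHom R _ q.asIdeal.ResidueField)⟩
  let g := desc n I fun i => (key i).some
  refine ⟨⟨RingHom.ker g, RingHom.ker_isPrime g⟩, PrimeSpectrum.ext ?_⟩
  change (RingHom.ker g.toRingHom).comap (algebraMap R (TT n I)) = p.asIdeal
  rw [RingHom.comap_ker, show g.toRingHom.comp (algebraMap R (TT n I)) = algebraMap R K from g.comp_algebraMap, IsScalarTower.algebraMap_eq R p.asIdeal.ResidueField K,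
    RingHom.ker_comp_of_injective _ (algebraMap p.asIdeal.ResidueField K).injective,
    Ideal.ker_algebraMap_residueField]

end

end Groth.Agent.EtTensorLib
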